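import Mathlib
import Groth.Agent.Lib.Helper5.TorAmp.PolyTor
import Groth.Agent.Lib.Helper5.TorAmp.Biprod
import Groth.Agent.Lib.Helper5.TorAmp.TorDim
import Groth.Agent.Lib.Helper5.DRing.PCHom

/-!
# Tor dimension of an algebra over a smooth algebra, both over a base over which the former is flat
(helper5)
-/
set_option autoImplicit false
set_option linter.unusedSectionVars false
set_option linter.unusedVariables false
set_option linter.style.haveILetI false
universe u
open CategoryTheory Limits Pretriangulated DerivedCategory TensorProduct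
attribute [local instance] HasDerivedCategory.standard

namespace Groth.Agent.Lib.Helper5.SmTor
open Groth.Agent.Helper5.TorAmp Groth.Agent.Helper5.FlatBC Groth.Agent.Helper5.PolyTor

/-- a retract in `D(R)` is a direct summand -/
theorem exists_biprod_of_retract {R : Type u} [CommRing R] {K L : Dual.D R} (r : Retract K L) :
    ∃ Z : Dual.D R, Nonempty (L ≅ K ⊞ Z) := by
  obtain ⟨Z, g, h, hT⟩ := Pretriangulated.distinguished_cocone_triangle r.i
  haveI : Mono r.i := (SplitMono.mk r.r r.retract).mono
  have h0 : (Triangle.mk r.i g h).mor₃ = 0 :=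
    (Triangle.mk r.i g h).mor₃_eq_zero_of_mono₁ hT (inferInstanceAs (Mono r.i))
  obtain ⟨e, -, -⟩ := Pretriangulated.exists_iso_binaryBiproduct_of_distTriang _ hT h0
  exact ⟨Z, ⟨e⟩⟩

theorem hasTorAmplitudeIn_of_retract {R : Type u} [CommRing R] {K L : Dual.D R} (r : Retract K L)
    (a b : ℤ) (h : DRing.HasTorAmplitudeIn R a b L) : DRing.HasTorAmplitudeIn R a b K := by
  obtain ⟨Z, ⟨e⟩⟩ := exists_biprod_of_retract r
  exact (hasTorAmplitudeIn_of_biprod a b K Z (hasTorAmplitudeIn_of_iso e h)).1

/-- descent of tor dimension along a flat unramified algebra -/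
theorem torAmp_of_unramified (P B : Type u) [CommRing P] [CommRing B] [Algebra P B]
    [Module.Flat P B] [Algebra.FormallyUnramified P B] [Algebra.EssFiniteType P B] (d : ℕ)
    (M : Type u) [AddCommGroup M] [Module B M] [Module P M] [IsScalarTower P B M]
    (h : DRing.HasTorAmplitudeIn P (-(d : ℤ)) 0 (Dual.inD P M)) :
    DRing.HasTorAmplitudeIn B (-(d : ℤ)) 0 (Dual.inD B M) := by
  have h1 := s7001 B d M h
  let i : ModuleCat.of B M ⟶ ModuleCat.of B (B ⊗[P] M) :=
    ModuleCat.ofHom (Algebra.FormallyUnramified.sec P B M)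
  let r : ModuleCat.of B (B ⊗[P] M) ⟶ ModuleCat.of B M :=
    ModuleCat.ofHom (TensorProduct.AlgebraTensorModule.lift
      ((Algebra.lsmul B B M).toLinearMap.flip.restrictScalars P).flip)
  have hir : i ≫ r = 𝟙 _ := by
    apply ModuleCat.hom_ext
    exact Algebra.FormallyUnramified.comp_sec P B M
  let rt : Retract (ModuleCat.of B M) (ModuleCat.of B (B ⊗[P] M)) := ⟨i, r, hir⟩
  exact hasTorAmplitudeIn_of_retract (rt.map (singleFunctor (ModuleCat.{u} B) 0)) _ _ h1

theorem torAmp_of_etale {P B : Type u} [CommRing P] [CommRing B] (g : P →+* B) (hg : g.Etale)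
    (d : ℕ) (M : ModuleCat.{u} B)
    (h : DRing.HasTorAmplitudeIn P (-(d : ℤ)) 0 ((singleFunctor (ModuleCat.{u} P) 0).obj
      ((ModuleCat.restrictScalars.{u} g).obj M))) :
    DRing.HasTorAmplitudeIn B (-(d : ℤ)) 0 ((singleFunctor (ModuleCat.{u} B) 0).obj M) := by
  algebraize [g]
  exact @torAmp_of_unramified P B _ _ _ inferInstance inferInstance inferInstance d
    ((ModuleCat.restrictScalars.{u} g).obj M) _ (inferInstanceAs (Module B M)) _
    (IsScalarTower.of_algebraMap_smul (fun _ _ => rfl)) h

theorem torAmp_of_stdSmooth_flat {A B C : Type u} [CommRing A] [CommRing B] [CommRing C]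
    (α : A →+* B) (β : B →+* C) (n : ℕ) (hα : α.IsStandardSmoothOfRelativeDimension n)
    (hflat : (β.comp α).Flat) :
    DRing.HasTorAmplitudeIn B (-(n : ℤ)) 0 ((singleFunctor (ModuleCat.{u} B) 0).obj
      ((ModuleCat.restrictScalars.{u} β).obj (ModuleCat.of C C))) := by
  obtain ⟨g, hgα, hg⟩ := hα.exists_etale_mvPolynomial
  apply torAmp_of_etale g hg n
  have h0 := torAmp_mv n A 0 ((ModuleCat.restrictScalars.{u} g).obj
    ((ModuleCat.restrictScalars.{u} β).obj (ModuleCat.of C C))) ?_
  · simpa using h0
  · letI : Algebra A C := (β.comp α).toAlgebra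
    have hf : Module.Flat A C := hflat
    let N := (ModuleCat.restrictScalars.{u} (MvPolynomial.C : A →+* MvPolynomial (Fin n) A)).obj
      ((ModuleCat.restrictScalars.{u} g).obj
        ((ModuleCat.restrictScalars.{u} β).obj (ModuleCat.of C C)))
    let e : C ≃ₗ[A] N :=
      { toFun := fun c => c
        invFun := fun c => c
        map_add' := fun _ _ => rfl
        map_smul' := fun a c => by
          show (β.comp α) a * c = β (g (MvPolynomial.C a)) * c
          rw [← hgα]
          rfl
        left_inv := fun _ => rfl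
        right_inv := fun _ => rfl }
    haveI : Module.Flat A N := Module.Flat.of_linearEquiv e.symm
    simpa using hasTorAmplitudeIn_single_of_flat N

end Groth.Agent.Lib.Helper5.SmTor
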