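import Mathlib
import Groth.Agent.Lib.Helper5.SmTor.Ring
import Groth.Agent.Lib.Helper5.RelTor.AffCrit
import Groth.Agent.Lib.Helper5.FinPC.FinPush

/-!
# Tor dimension of a morphism from a flat scheme to a smooth scheme (helper5)
-/
set_option autoImplicit false
set_option linter.unusedSectionVars false
set_option linter.unusedVariables false
set_option linter.style.haveILetI false
universe u
open CategoryTheory CategoryTheory.Limits AlgebraicGeometry Pretriangulated
attribute [local instance] HasDerivedCategory.standard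

namespace Groth.Agent.Lib.Helper5.SmTor

open Groth.Agent.Helper5.TorAmp Groth.Agent.Lib.Helper5.DerSchTor
open Groth.Agent.Lib.Helper5.LocNull Groth.Agent.Lib.Helper5.RelTor
open Groth.Agent.Lib.Helper5.FinPush

variable {X Y : Scheme.{u}}

/-- the unit complex restricted to an affine chart is the tilde of the ring -/
noncomputable def unitChartIso {U : X.Opens} (hU : IsAffineOpen U) :
    DCoh.toD (Spec Γ(X, U)) ((RCx hU.fromSpec).obj (DerSch.unitCx X)) ≅
      (DCoh.tildeD Γ(X, U)).obj ((DerivedCategory.singleFunctor (ModuleCat.{u} Γ(X, U)) 0).obj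
        (ModuleCat.of Γ(X, U) Γ(X, U))) :=
  ((Scheme.Modules.restrictFunctor hU.fromSpec).mapDerivedCategoryFactors.app _).symm ≪≫
    (DCoh.restrictD hU.fromSpec).mapIso
      ((DerivedCategory.singleFunctorIsoCompQ X.Modules 0).app _).symm ≪≫
    restrictDUnitIso hU.fromSpec ≪≫ (tildeDUnitIso Γ(X, U)).symm

/-- tor amplitude of the structure sheaf relative to `f`, from an affine chart -/
theorem hasTorAmplitudeAt_unit_of_chart (f : X ⟶ Y) {U : X.Opens} (hU : IsAffineOpen U)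
    {V : Y.Opens} (hV : IsAffineOpen V) (hUV : U ≤ f ⁻¹ᵁ V) (a b : ℤ)
    (h : DRing.HasTorAmplitudeIn Γ(Y, V) a b
      ((DerivedCategory.singleFunctor (ModuleCat.{u} Γ(Y, V)) 0).obj
        ((ModuleCat.restrictScalars.{u} (f.appLE V U hUV).hom).obj
          (ModuleCat.of Γ(X, U) Γ(X, U)))))
    (x : X) (hx : x ∈ U) : DerSch.HasTorAmplitudeAt f a b (DerSch.unitCx X) x := by
  obtain ⟨x', rfl⟩ : ∃ x' : Spec Γ(X, U), hU.fromSpec.base x' = x := by
    have h1 : x ∈ Set.range hU.fromSpec := by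
      rw [hU.range_fromSpec]
      exact hx
    exact h1
  rw [hasTorAmplitudeAt_fromSpec_iff f hU hV hUV]
  have key := (hasTorAmplitude_iff_of_tildeD (f.appLE V U hUV).hom
    ((DerivedCategory.singleFunctor (ModuleCat.{u} Γ(X, U)) 0).obj
      (ModuleCat.of Γ(X, U) Γ(X, U)))
    ((RCx hU.fromSpec).obj (DerSch.unitCx X)) ⟨unitChartIso hU⟩ a b).2
    (hasTorAmplitudeIn_of_iso
      (Groth.Agent.Helper5.PCHom.restrictDSingle (f.appLE V U hUV).hom _).symm h)
  exact key x'

/-- **S11444 in lib form** -/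
theorem hasTorDimLE_of_smooth_flat {S : Scheme.{u}} (p : X ⟶ S) (q : Y ⟶ S) (f : X ⟶ Y)
    (hf : f ≫ q = p) (n : ℕ) [SmoothOfRelativeDimension n q] [Flat p] :
    DerSch.HasTorDimLE f n := by
  intro x
  obtain ⟨W, hW, V, hV, hyV, e, hstd⟩ :=
    SmoothOfRelativeDimension.exists_isStandardSmoothOfRelativeDimension (n := n) (f := q)
      (f.base x)
  obtain ⟨U, hU, hxU, hUV⟩ : ∃ U : X.Opens, IsAffineOpen U ∧ x ∈ U ∧ U ≤ f ⁻¹ᵁ V := by
    obtain ⟨U', ⟨hU', hxU', hUV'⟩⟩ :=
      (X.isBasis_affineOpens).exists_subset_of_mem_open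
        (show x ∈ ((f ⁻¹ᵁ V : X.Opens) : Set X) from hyV) (f ⁻¹ᵁ V).isOpen
    obtain ⟨U, hU, rfl⟩ := hU'
    exact ⟨U, hU, hxU', hUV'⟩
  refine hasTorAmplitudeAt_unit_of_chart f hU hV hUV _ _ ?_ x hxU
  subst hf
  have hUW : U ≤ (f ≫ q) ⁻¹ᵁ W := fun z hz => e (hUV hz)
  have hflat : ((f ≫ q).appLE W U hUW).hom.Flat := Flat.flat_appLE (f ≫ q) hW hU hUW
  have hcomp : (f.appLE V U hUV).hom.comp (q.appLE W V e).hom = ((f ≫ q).appLE W U hUW).hom := by
    rw [← CommRingCat.hom_comp, Scheme.Hom.appLE_comp_appLE]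
  exact torAmp_of_stdSmooth_flat (q.appLE W V e).hom (f.appLE V U hUV).hom n hstd
    (hcomp ▸ hflat)

end Groth.Agent.Lib.Helper5.SmTor
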