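import Mathlib
import Groth.Agent.Lib.Helper5.SmTor.LocRing
import Groth.Agent.Lib.Helper5.SmTor.Geo

/-!
# Pointwise finite tor dimension over a smooth scheme (helper5)
-/
set_option autoImplicit false
set_option linter.unusedSectionVars false
set_option linter.unusedVariables false
set_option linter.style.haveILetI false
universe u
open CategoryTheory CategoryTheory.Limits AlgebraicGeometry Pretriangulated
attribute [local instance] HasDerivedCategory.standard

namespace Groth.Agent.Lib.Helper5.SmTor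

open Groth.Agent.Helper5.TorAmp

/-- over the local ring of a smooth `S`-scheme, finite tor dimension over the local ring of `S`
implies finite tor dimension -/
theorem exists_torAmp_of_smooth_stalk {B S : Scheme.{u}} (h : B ⟶ S) [Smooth h] (b₀ : B) :
    ∃ n : ℕ, ∀ (d : ℕ) (M : ModuleCat.{u} (B.presheaf.stalk b₀)),
      DRing.HasTorAmplitudeIn (S.presheaf.stalk (h.base b₀)) (-(d : ℤ)) 0
        ((DerivedCategory.singleFunctor (ModuleCat.{u} (S.presheaf.stalk (h.base b₀))) 0).obj
          ((ModuleCat.restrictScalars.{u} (h.stalkMap b₀).hom).obj M)) →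
      DRing.HasTorAmplitudeIn (B.presheaf.stalk b₀) (-((d + n : ℕ) : ℤ)) 0
        ((DerivedCategory.singleFunctor (ModuleCat.{u} (B.presheaf.stalk b₀)) 0).obj M) := by
  obtain ⟨W, hW, V, hV, hbV, e, hstd⟩ := Smooth.exists_isStandardSmooth h b₀
  have hbW : h.base b₀ ∈ W := e hbV
  letI : Algebra Γ(S, W) (S.presheaf.stalk (h.base b₀)) :=
    S.presheaf.algebra_section_stalk ⟨h.base b₀, hbW⟩
  haveI := hW.isLocalization_stalk ⟨h.base b₀, hbW⟩
  letI : Algebra Γ(B, V) (B.presheaf.stalk b₀) := B.presheaf.algebra_section_stalk ⟨b₀, hbV⟩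
  haveI := hV.isLocalization_stalk ⟨b₀, hbV⟩
  refine exists_torAmp_of_loc_stdSmooth (h.appLE W V e).hom hstd
    (hW.primeIdealOf ⟨h.base b₀, hbW⟩).asIdeal.primeCompl
    (hV.primeIdealOf ⟨b₀, hbV⟩).asIdeal.primeCompl (h.stalkMap b₀).hom ?_
  have key : S.presheaf.germ W (h.base b₀) hbW ≫ h.stalkMap b₀ =
      h.appLE W V e ≫ B.presheaf.germ V b₀ hbV := by
    rw [Scheme.Hom.germ_stalkMap, Scheme.Hom.appLE, Category.assoc, TopCat.Presheaf.germ_res]
  exact congrArg CommRingCat.Hom.hom key

/-- the complex of stalks of a module placed in degree `0` -/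
noncomputable def stalkSingleIso {X Z : Scheme.{u}} (g : X ⟶ Z) (x : X) (F : X.Modules) :
    DRing.toD ((DerSch.stalkCxOver g x).obj
      ((HomologicalComplex.single X.Modules (ComplexShape.up ℤ) 0).obj F)) ≅
      (DerivedCategory.singleFunctor (ModuleCat.{u} (Z.presheaf.stalk (g.base x))) 0).obj
        ((DerSch.stalkOver g x).obj F) :=
  DerivedCategory.Q.mapIso ((HomologicalComplex.singleMapHomologicalComplex
      (DerSch.stalkOver g x) (ComplexShape.up ℤ) 0).app F) ≪≫
    ((DerivedCategory.singleFunctorIsoCompQ _ 0).app _).symm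

/-- **S14074 in lib form** -/
theorem finTorDim_over_smooth {X B S : Scheme.{u}} (h : B ⟶ S) [Smooth h] (φ : X ⟶ B)
    (F : X.Modules) (x : X) (a b : ℤ)
    (hab : DerSch.HasTorAmplitudeAt (φ ≫ h) a b
      ((HomologicalComplex.single X.Modules (ComplexShape.up ℤ) 0).obj F) x) :
    ∃ a' b' : ℤ, DerSch.HasTorAmplitudeAt φ a' b'
      ((HomologicalComplex.single X.Modules (ComplexShape.up ℤ) 0).obj F) x := by
  obtain ⟨n, hn⟩ := exists_torAmp_of_smooth_stalk h (φ.base x)
  have h1 := hasTorAmplitudeIn_of_iso (stalkSingleIso (φ ≫ h) x F) hab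
  have hcomp : ((φ ≫ h).stalkMap x).hom =
      (φ.stalkMap x).hom.comp (h.stalkMap (φ.base x)).hom := by
    rw [Scheme.Hom.stalkMap_comp]
    rfl
  have h2 : DRing.HasTorAmplitudeIn (S.presheaf.stalk (h.base (φ.base x))) a b
      ((DerivedCategory.singleFunctor (ModuleCat.{u} (S.presheaf.stalk (h.base (φ.base x)))) 0).obj
        ((ModuleCat.restrictScalars.{u} (h.stalkMap (φ.base x)).hom).obj
          ((DerSch.stalkOver φ x).obj F))) :=
    hasTorAmplitudeIn_of_iso ((DerivedCategory.singleFunctor _ 0).mapIso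
      (ModuleCat.restrictScalarsComp'App _ _ _ hcomp ((DerSch.stalkFunctor X x).obj F))) h1
  have h3 : DRing.HasTorAmplitudeIn (S.presheaf.stalk (h.base (φ.base x))) (-(a.natAbs : ℤ)) 0
      ((DerivedCategory.singleFunctor (ModuleCat.{u} (S.presheaf.stalk (h.base (φ.base x)))) 0).obj
        ((ModuleCat.restrictScalars.{u} (h.stalkMap (φ.base x)).hom).obj
          ((DerSch.stalkOver φ x).obj F))) :=
    hasTorAmplitudeIn_mono (hasTorAmplitudeIn_trim h2 (b' := 0)) (by omega) le_rfl
  have h4 := hn a.natAbs ((DerSch.stalkOver φ x).obj F) h3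
  exact ⟨_, 0, hasTorAmplitudeIn_of_iso (stalkSingleIso φ x F).symm h4⟩

end Groth.Agent.Lib.Helper5.SmTor
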