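import Mathlib
import Groth.Prelude.Def_DTen4
import Groth.Agent.Lib.Helper5.TorAmp.BaseChange
import Groth.Agent.Lib.Helper5.TorAmp.Tri
import Groth.Agent.Lib.Helper5.TorAmp.TorDim

/-!
# From modules to complexes: tor amplitude over an algebra of finite relative tor dimension
(helper5)

Let `σ : R → B` be flat and suppose every `B`-module that is flat over `R` has tor dimension `≤ n`
over `B`.  Then every complex of `B`-modules with tor amplitude in `[a, b]` over `R` has tor
amplitude in `[a - n, b]` over `B`.
-/
set_option autoImplicit false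
set_option linter.unusedSectionVars false
set_option linter.unusedVariables false
set_option linter.style.haveILetI false
universe u
open CategoryTheory Limits Pretriangulated DerivedCategory
attribute [local instance] HasDerivedCategory.standard

namespace Groth.Agent.Lib.Helper5.SmTor
open Groth.Agent.Helper5.TorAmp Groth.Agent.Helper5.FlatBC Groth.Agent.Helper5.FlatAcyc

section Opc
variable {C : Type*} [Category C] [Abelian C] {ι : Type*} {c : ComplexShape ι}

theorem fromOpcycles_pOpcycles (K : HomologicalComplex C c) (i j : ι) :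
    K.fromOpcycles i j ≫ K.pOpcycles j = 0 := by
  rw [← cancel_epi (K.pOpcycles i), K.p_fromOpcycles_assoc, K.d_pOpcycles, comp_zero]

/-- the short exact sequence `0 → opcycles i → X j → opcycles j → 0` at an exact spot -/
theorem shortExact_opcycles (K : HomologicalComplex C c) (i j : ι) (hij : c.Rel i j)
    (h : K.ExactAt i) :
    (ShortComplex.mk (K.fromOpcycles i j) (K.pOpcycles j)
      (fromOpcycles_pOpcycles K i j)).ShortExact := by
  have hprev : c.prev j = i := c.prev_eq' hij
  have hnext : c.next i = j := c.next_eq' hij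
  have hmono : Mono (K.fromOpcycles i j) :=
    Preadditive.mono_of_isZero_kernel' _ (K.homologyIsKernel i j hnext)
      ((K.exactAt_iff_isZero_homology i).1 h)
  have hex : (ShortComplex.mk (K.fromOpcycles i j) (K.pOpcycles j)
      (fromOpcycles_pOpcycles K i j)).Exact := by
    apply ShortComplex.exact_of_g_is_cokernel
    exact CokernelCofork.IsColimit.ofπ _ _
      (fun {Z} g hg => K.descOpcycles g i hprev (by
        rw [← K.p_fromOpcycles i j, Category.assoc]
        erw [hg]
        rw [comp_zero]))
      (fun g hg => K.p_descOpcycles _ _ _ _)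
      (fun g hg m hm => by
        rw [← cancel_epi (K.pOpcycles j), K.p_descOpcycles]
        exact hm)
  exact { exact := hex, mono_f := hmono, epi_g := by dsimp; infer_instance }

end Opc

variable {B : Type u} [CommRing B]

/-- dimension shifting -/
theorem torAmp_ds (S : ShortComplex (ModuleCat.{u} B)) (hS : S.ShortExact)
    (hF : Module.Flat B S.X₂) (d : ℕ)
    (h : DRing.HasTorAmplitudeIn B (-((d + 1 : ℕ) : ℤ)) 0
      ((singleFunctor (ModuleCat.{u} B) 0).obj S.X₃)) :
    DRing.HasTorAmplitudeIn B (-(d : ℤ)) 0 ((singleFunctor (ModuleCat.{u} B) 0).obj S.X₁) := by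
  have hT := hS.singleTriangle_distinguished
  haveI := hF
  have h2 : DRing.HasTorAmplitudeIn B (-(d : ℤ) - 1 + 1) (0 + 1)
      ((singleFunctor (ModuleCat.{u} B) 0).obj S.X₂) :=
    hasTorAmplitudeIn_mono (hasTorAmplitudeIn_single_of_flat S.X₂) (by omega) (by omega)
  have h3 : DRing.HasTorAmplitudeIn B (-(d : ℤ) - 1) 0
      ((singleFunctor (ModuleCat.{u} B) 0).obj S.X₃) :=
    hasTorAmplitudeIn_mono h (by push_cast; omega) le_rfl
  have h1 := (hasTorAmplitudeIn_of_distTriang (-(d : ℤ) - 1) 0 _ hT).2.2 h2 h3
  have h1' : DRing.HasTorAmplitudeIn B (-(d : ℤ) - 1 + 1) (0 + 1)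
      ((singleFunctor (ModuleCat.{u} B) 0).obj S.X₁) := h1
  haveI : ((singleFunctor (ModuleCat.{u} B) 0).obj S.X₁).IsLE 0 := inferInstance
  exact hasTorAmplitudeIn_mono (hasTorAmplitudeIn_trim h1' (b' := 0)) (by omega) le_rfl

/-- iterated dimension shifting along a complex of flats that is exact below degree `i` -/
theorem flat_opcycles_shift (P : DRing.Cx B) (hflat : DRing.TermwiseFlat P) :
    ∀ (n : ℕ) (i : ℤ), (∀ k, k < i → P.ExactAt k) →
      DRing.HasTorAmplitudeIn B (-(n : ℤ)) 0
        ((singleFunctor (ModuleCat.{u} B) 0).obj (P.opcycles i)) →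
      Module.Flat B (P.opcycles (i - n)) := by
  intro n
  induction n with
  | zero =>
    intro i _ h
    have h' : DRing.HasTorAmplitudeIn B 0 0
        ((singleFunctor (ModuleCat.{u} B) 0).obj (P.opcycles i)) := by simpa using h
    have := flat_of_hasTorAmplitudeIn_single _ h'
    have e : i - ((0 : ℕ) : ℤ) = i := by simp
    rw [e]
    exact this
  | succ n ih =>
    intro i hex h
    have hS := shortExact_opcycles P (i - 1) i (by simp) (hex (i - 1) (by omega))
    have h1 := torAmp_ds _ hS (hflat i) n h
    have h2 := ih (i - 1) (fun k hk => hex k (by omega)) h1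
    have e : i - ((n + 1 : ℕ) : ℤ) = i - 1 - (n : ℤ) := by push_cast; ring
    rw [e]
    exact h2

/-- flat truncation with a given flat module of opcycles -/
theorem hasTorAmplitudeIn_of_flat_opcycles (P : DRing.Cx B) (hflat : DRing.TermwiseFlat P)
    (a b : ℤ) (hb : DRing.VanishesAbove P b) (hex : ∀ k, k < a → P.ExactAt k)
    (hC : Module.Flat B (P.opcycles a)) :
    DRing.HasTorAmplitudeIn B a b (DRing.toD P) := by
  have hGE : P.IsGE a := by
    rw [CochainComplex.isGE_iff]
    intro i hi
    exact hex i hi
  have hq : QuasiIso (P.πTruncGE a) := inferInstance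
  refine ⟨P.truncGE a, ?_, ?_, ⟨(asIso (Q.map (P.πTruncGE a))).symm⟩⟩
  · intro i hi
    rcases hi with hi | hi
    · exact (P.truncGE a).isZero_of_isStrictlyGE a i hi
    · rcases lt_trichotomy i a with h1 | h1 | h1
      · exact (P.truncGE a).isZero_of_isStrictlyGE a i h1
      · subst h1
        exact (isZero_opcycles_of_isZero P i (hb i hi)).of_iso (P.truncGEXIsoOpcycles i)
      · exact (hb i hi).of_iso (P.truncGEXIso a i h1)
  · intro i
    rcases lt_trichotomy i a with h1 | h1 | h1
    · have : Subsingleton ((P.truncGE a).X i) :=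
        ModuleCat.subsingleton_of_isZero ((P.truncGE a).isZero_of_isStrictlyGE a i h1)
      infer_instance
    · subst h1
      haveI := hC
      exact Module.Flat.of_linearEquiv (P.truncGEXIsoOpcycles i).toLinearEquiv
    · have := hflat i
      exact Module.Flat.of_linearEquiv (P.truncGEXIso a i h1).toLinearEquiv

section Main
variable {R : Type u} [CommRing R] (σ : R →+* B)

theorem exactAt_of_resCx' (L : DRing.Cx B) (i : ℤ) (h : ((DTen.resCx σ).obj L).ExactAt i) :
    L.ExactAt i :=
  (ShortComplex.exact_map_iff_of_faithful _ (ModuleCat.restrictScalars.{u} σ)).1 h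

theorem flat_restrictScalars (hσ : σ.Flat) (M : ModuleCat.{u} B) (hM : Module.Flat B M) :
    Module.Flat R ((ModuleCat.restrictScalars.{u} σ).obj M) := by
  letI : Algebra R B := σ.toAlgebra
  haveI : Module.Flat R B := hσ
  letI : Module R M := Module.compHom M σ
  haveI : IsScalarTower R B M := IsScalarTower.of_algebraMap_smul (fun _ _ => rfl)
  exact (Module.Flat.trans R B M : Module.Flat R M)

/-- **From modules to complexes.** -/
theorem torAmp_cx_of_module (hσ : σ.Flat) (n : ℕ)
    (hmod : ∀ M : ModuleCat.{u} B, Module.Flat R ((ModuleCat.restrictScalars.{u} σ).obj M) →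
      DRing.HasTorAmplitudeIn B (-(n : ℤ)) 0 ((singleFunctor (ModuleCat.{u} B) 0).obj M))
    (K : DRing.Cx B) (a b : ℤ)
    (h : DRing.HasTorAmplitudeIn R a b (DRing.toD ((DTen.resCx σ).obj K))) :
    DRing.HasTorAmplitudeIn B (a - n) b (DRing.toD K) := by
  have hexK : ∀ i : ℤ, (i < a ∨ b < i) → K.ExactAt i := fun i hi =>
    exactAt_of_resCx' σ K i (by
      obtain ⟨E, h1, h2, ⟨e⟩⟩ := h
      rw [HomologicalComplex.exactAt_iff_isZero_homology]
      refine IsZero.of_iso ?_ ((DerivedCategory.homologyFunctorFactors _ i).app _).symm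
      refine IsZero.of_iso ?_ ((DerivedCategory.homologyFunctor _ i).mapIso e.symm)
      refine IsZero.of_iso ?_ ((DerivedCategory.homologyFunctorFactors _ i).app E)
      exact (HomologicalComplex.exactAt_iff_isZero_homology _ _).1
        (HomologicalComplex.ExactAt.of_isZero (h1 i hi)))
  haveI hle : (DRing.toD K).IsLE b := by
    rw [DerivedCategory.isLE_iff]
    intro j hj
    exact ((HomologicalComplex.exactAt_iff_isZero_homology _ _).1 (hexK j (Or.inr hj))).of_iso
      ((homologyFunctorFactors (ModuleCat.{u} B) j).app K)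
  obtain ⟨P, hPb, hproj, _, ⟨e⟩⟩ := exists_proj_rep (DRing.toD K) b
  have hflat : DRing.TermwiseFlat P := termwiseFlat_of_projective P hproj
  have hexP : ∀ k : ℤ, k < a → P.ExactAt k := by
    intro k hk
    rw [HomologicalComplex.exactAt_iff_isZero_homology]
    refine IsZero.of_iso ((HomologicalComplex.exactAt_iff_isZero_homology _ _).1
      (hexK k (Or.inl hk))) ?_
    exact ((homologyFunctorFactors (ModuleCat.{u} B) k).app P).symm ≪≫
      (homologyFunctor (ModuleCat.{u} B) k).mapIso e ≪≫
      (homologyFunctorFactors (ModuleCat.{u} B) k).app K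
  -- the restricted complex
  have hflat' : DRing.TermwiseFlat ((DTen.resCx σ).obj P) := fun i =>
    flat_restrictScalars σ hσ (P.X i) (hflat i)
  have hPb' : DRing.VanishesAbove ((DTen.resCx σ).obj P) b := fun i hi =>
    Functor.map_isZero (ModuleCat.restrictScalars.{u} σ) (hPb i hi)
  have e' : DRing.toD ((DTen.resCx σ).obj P) ≅ DRing.toD ((DTen.resCx σ).obj K) :=
    ((DTen.resFactors σ).app P).symm ≪≫ (DRing.restrictD σ).mapIso e ≪≫ (DTen.resFactors σ).app K
  have hTV : TorVan a b ((DTen.resCx σ).obj P) :=
    (hasTorAmplitudeIn_iff' _ hflat' b hPb' e' a b).1 h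
  have hfl1 : Module.Flat R (((DTen.resCx σ).obj P).opcycles a) :=
    flat_opcycles _ hflat' a (hTV.exactAt _ (Or.inl (by omega)))
      (fun I => hTV _ _ (Or.inl (by omega)))
  have eo : ((DTen.resCx σ).obj P).opcycles a ≅
      (ModuleCat.restrictScalars.{u} σ).obj (P.opcycles a) :=
    (P.sc a).mapOpcyclesIso (ModuleCat.restrictScalars.{u} σ)
  have hfl2 : Module.Flat R ((ModuleCat.restrictScalars.{u} σ).obj (P.opcycles a)) :=
    Module.Flat.of_linearEquiv eo.symm.toLinearEquiv
  have h3 := hmod (P.opcycles a) hfl2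
  have h4 := flat_opcycles_shift P hflat n a hexP h3
  exact hasTorAmplitudeIn_of_iso e
    (hasTorAmplitudeIn_of_flat_opcycles P hflat (a - n) b hPb
      (fun k hk => hexP k (by omega)) h4)

end Main

end Groth.Agent.Lib.Helper5.SmTor
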