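import Mathlib
import Groth.Agent.Lib.Helper5.SmTor.LocRing
import Groth.Agent.Lib.Helper5.SmTor.CxMod

/-!
# Tor amplitude over essentially smooth local algebras, with the chart given (helper5)

The same statement as `exists_torAmp_of_loc_stdSmooth`, but with the étale chart
`A[X₁, …, Xₙ] → B₀` as an input, so that the shift `n` is uniform over the chart; and its version
for complexes.
-/
set_option autoImplicit false
set_option linter.unusedSectionVars false
set_option linter.unusedVariables false
set_option linter.style.haveILetI false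
universe u
open CategoryTheory Limits Pretriangulated DerivedCategory TensorProduct
attribute [local instance] HasDerivedCategory.standard

namespace Groth.Agent.Lib.Helper5.SmTor
attribute [local instance] MvPolynomial.algebraMvPolynomial
open Groth.Agent.Helper5.TorAmp Groth.Agent.Helper5.FlatBC Groth.Agent.Helper5.PolyTor

/-- modules over a localisation of an algebra with an étale chart of relative dimension `n` -/
theorem torAmp_of_loc_etale_chart {A B₀ R B' : Type u} [CommRing A] [CommRing B₀] [CommRing R]
    [CommRing B'] (α : A →+* B₀) (n : ℕ) (g₀ : MvPolynomial (Fin n) A →+* B₀)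
    (hg₀ : g₀.comp MvPolynomial.C = α) (hét : g₀.Etale) [Algebra A R] [Algebra B₀ B']
    (MA : Submonoid A) [IsLocalization MA R] (MB : Submonoid B₀) [IsLocalization MB B']
    (σ : R →+* B') (hσ : σ.comp (algebraMap A R) = (algebraMap B₀ B').comp α)
    (d : ℕ) (M : ModuleCat.{u} B')
    (hM : DRing.HasTorAmplitudeIn R (-(d : ℤ)) 0 ((singleFunctor (ModuleCat.{u} R) 0).obj
        ((ModuleCat.restrictScalars.{u} σ).obj M))) :
    DRing.HasTorAmplitudeIn B' (-((d + n : ℕ) : ℤ)) 0
        ((singleFunctor (ModuleCat.{u} B') 0).obj M) := by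
  let ψ : MvPolynomial (Fin n) R →+* B' :=
    MvPolynomial.eval₂Hom σ (fun i => algebraMap B₀ B' (g₀ (MvPolynomial.X i)))
  have hψC : ψ.comp (MvPolynomial.C : R →+* MvPolynomial (Fin n) R) = σ := by
    ext r
    simp [ψ]
  letI : Algebra (MvPolynomial (Fin n) A) B₀ := g₀.toAlgebra
  haveI : Algebra.Etale (MvPolynomial (Fin n) A) B₀ := hét
  letI : Algebra (MvPolynomial (Fin n) A) B' := ((algebraMap B₀ B').comp g₀).toAlgebra
  haveI : IsScalarTower (MvPolynomial (Fin n) A) B₀ B' :=
    IsScalarTower.of_algebraMap_eq (fun _ => rfl)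
  letI : Algebra (MvPolynomial (Fin n) R) B' := ψ.toAlgebra
  haveI : IsScalarTower (MvPolynomial (Fin n) A) (MvPolynomial (Fin n) R) B' := by
    refine IsScalarTower.of_algebraMap_eq' ?_
    show (algebraMap B₀ B').comp g₀ =
      ψ.comp (MvPolynomial.map (algebraMap A R))
    apply MvPolynomial.ringHom_ext
    · intro a
      have h1 : g₀ (MvPolynomial.C a) = α a := RingHom.congr_fun hg₀ a
      have h2 : σ (algebraMap A R a) = algebraMap B₀ B' (α a) := RingHom.congr_fun hσ a
      rw [RingHom.comp_apply, RingHom.comp_apply, MvPolynomial.map_C, h1]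
      show _ = MvPolynomial.eval₂Hom σ _ (MvPolynomial.C _)
      rw [MvPolynomial.eval₂Hom_C, h2]
    · intro i
      rw [RingHom.comp_apply, RingHom.comp_apply, MvPolynomial.map_X]
      show _ = MvPolynomial.eval₂Hom σ _ (MvPolynomial.X _)
      rw [MvPolynomial.eval₂Hom_X']
  -- unramified
  haveI : Algebra.FormallyUnramified B₀ B' :=
    Algebra.FormallyUnramified.of_isLocalization (Rₘ := B') MB
  haveI : Algebra.FormallyUnramified (MvPolynomial (Fin n) A) B' :=
    Algebra.FormallyUnramified.comp (MvPolynomial (Fin n) A) B₀ B'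
  haveI : Algebra.FormallyUnramified (MvPolynomial (Fin n) R) B' :=
    Algebra.FormallyUnramified.of_restrictScalars (MvPolynomial (Fin n) A)
      (MvPolynomial (Fin n) R) B'
  -- essentially of finite type
  haveI : Algebra.EssFiniteType B₀ B' := Algebra.EssFiniteType.of_isLocalization B' MB
  haveI : Algebra.EssFiniteType (MvPolynomial (Fin n) A) B' :=
    Algebra.EssFiniteType.comp (MvPolynomial (Fin n) A) B₀ B'
  haveI : Algebra.EssFiniteType (MvPolynomial (Fin n) R) B' :=
    Algebra.EssFiniteType.of_comp (MvPolynomial (Fin n) A) (MvPolynomial (Fin n) R) B'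
  -- flat
  haveI : Module.Flat B₀ B' := IsLocalization.flat B' MB
  haveI : Module.Flat (MvPolynomial (Fin n) A) B' :=
    Module.Flat.trans (MvPolynomial (Fin n) A) B₀ B'
  haveI : Module.Flat (MvPolynomial (Fin n) R) B' :=
    (Module.flat_iff_of_isLocalization (MvPolynomial (Fin n) R)
      (MA.map (MvPolynomial.C : A →+* MvPolynomial (Fin n) A)) B').2 inferInstance
  -- conclusion
  apply torAmp_of_unramified' (MvPolynomial (Fin n) R) B' (d + n) M
  apply torAmp_mv n R d ((ModuleCat.restrictScalars.{u} ψ).obj M)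
  exact hasTorAmplitudeIn_of_iso ((singleFunctor _ 0).mapIso
    (ModuleCat.restrictScalarsComp'App _ _ _ hψC.symm M)) hM

/-- complexes over a localisation of an algebra with an étale chart of relative dimension `n` -/
theorem torAmp_cx_of_loc_etale_chart {A B₀ R B' : Type u} [CommRing A] [CommRing B₀] [CommRing R]
    [CommRing B'] (α : A →+* B₀) (n : ℕ) (g₀ : MvPolynomial (Fin n) A →+* B₀)
    (hg₀ : g₀.comp MvPolynomial.C = α) (hét : g₀.Etale) [Algebra A R] [Algebra B₀ B']
    (MA : Submonoid A) [IsLocalization MA R] (MB : Submonoid B₀) [IsLocalization MB B']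
    (σ : R →+* B') (hσ : σ.comp (algebraMap A R) = (algebraMap B₀ B').comp α) (hσf : σ.Flat)
    (K : DRing.Cx B') (a b : ℤ)
    (h : DRing.HasTorAmplitudeIn R a b (DRing.toD ((DTen.resCx σ).obj K))) :
    DRing.HasTorAmplitudeIn B' (a - n) b (DRing.toD K) := by
  refine torAmp_cx_of_module σ hσf n (fun M hM => ?_) K a b h
  haveI := hM
  have h0 : DRing.HasTorAmplitudeIn R (-((0 : ℕ) : ℤ)) 0
      ((singleFunctor (ModuleCat.{u} R) 0).obj ((ModuleCat.restrictScalars.{u} σ).obj M)) := by
    simpa using hasTorAmplitudeIn_single_of_flat ((ModuleCat.restrictScalars.{u} σ).obj M)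
  have := torAmp_of_loc_etale_chart α n g₀ hg₀ hét MA MB σ hσ 0 M h0
  simpa using this

end Groth.Agent.Lib.Helper5.SmTor
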