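import Mathlib
import Groth.Agent.Lib.Helper5.SmTor.LocRing2
import Groth.Agent.Lib.Helper5.SmTor.LocGeo
import Groth.Agent.Lib.Helper5.KSix.FlatAmpStalk
import Groth.Agent.Lib.Helper5.RelTor.AffCrit
import Groth.Agent.Lib.Helper5.RelTor.Basic
import Groth.Agent.Lib.Helper5.Stalk.ClPushStalk
import Groth.Agent.Lib.Helper5.ProjF.PiMap
import Groth.Agent.Lib.Helper5.Perf.PerfIff

/-!
# Relative versus absolute tor amplitude over a smooth morphism, for complexes (helper5)

For `f' : X' ⟶ Y` smooth of relative dimension `n` near `x`, a complex of `O_X'`-modules whose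
complex of stalks at `x` has tor amplitude in `[a, b]` over `O_{Y, f' x}` has tor amplitude in
`[a - n, b]` over `O_{X', x}`.  Consequences for direct images under closed immersions.
-/
set_option autoImplicit false
set_option linter.unusedSectionVars false
set_option linter.unusedVariables false
set_option linter.style.haveILetI false
universe u
open CategoryTheory CategoryTheory.Limits AlgebraicGeometry Pretriangulated TopologicalSpace
attribute [local instance] HasDerivedCategory.standard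

namespace Groth.Agent.Lib.Helper5.SmTor

open Groth.Agent.Helper5.TorAmp Groth.Agent.Lib.Helper5.DerSchTor Groth.Agent.Lib.Helper5.LocNull
open Groth.Agent.Lib.Helper5.RelTor Groth.Agent.Lib.Helper5.KSixFlat
open Groth.Agent.Lib.Helper5.StalkTot Groth.Agent.Lib.Helper5.StalkAdj
open Groth.Agent.Lib.Helper5.RelPerfTen Groth.Agent.Lib.Helper5.PerfIff
open Groth.Agent.Lib.Helper5.ClPushStalk

/-- the chart form: relative tor amplitude gives absolute tor amplitude, shifted by the relative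
dimension of an étale chart -/
theorem hasTorAmplitudeAt_id_of_chart {V Y : Scheme.{u}} (g : V ⟶ Y) [Flat g] {W : Y.Opens}
    (hW : IsAffineOpen W) {U : V.Opens} (hU : IsAffineOpen U) (e : U ≤ g ⁻¹ᵁ W) (n : ℕ)
    (g₀ : MvPolynomial (Fin n) Γ(Y, W) →+* Γ(V, U))
    (hg₀ : g₀.comp MvPolynomial.C = (g.appLE W U e).hom) (hét : g₀.Etale)
    (x : V) (hx : x ∈ U) (K : CochainComplex V.Modules ℤ) (a b : ℤ)
    (h : DerSch.HasTorAmplitudeAt g a b K x) :
    DerSch.HasTorAmplitudeAt (𝟙 V) (a - n) b K x := by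
  have hxW : g.base x ∈ W := e hx
  letI : Algebra Γ(Y, W) (Y.presheaf.stalk (g.base x)) :=
    Y.presheaf.algebra_section_stalk ⟨g.base x, hxW⟩
  haveI := hW.isLocalization_stalk ⟨g.base x, hxW⟩
  letI : Algebra Γ(V, U) (V.presheaf.stalk x) := V.presheaf.algebra_section_stalk ⟨x, hx⟩
  haveI := hU.isLocalization_stalk ⟨x, hx⟩
  rw [hasTorAmplitudeAt_id_iff]
  rw [hasTorAmplitudeAt_iff] at h
  refine torAmp_cx_of_loc_etale_chart (g.appLE W U e).hom n g₀ hg₀ hét
    (hW.primeIdealOf ⟨g.base x, hxW⟩).asIdeal.primeCompl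
    (hU.primeIdealOf ⟨x, hx⟩).asIdeal.primeCompl (g.stalkMap x).hom ?_ (Flat.stalkMap g x)
    (stalkCx V x K) a b h
  have key : Y.presheaf.germ W (g.base x) hxW ≫ g.stalkMap x =
      g.appLE W U e ≫ V.presheaf.germ U x hx := by
    rw [Scheme.Hom.germ_stalkMap, Scheme.Hom.appLE, Category.assoc, TopCat.Presheaf.germ_res]
  exact congrArg CommRingCat.Hom.hom key

/-- around every point of the source of a smooth morphism, relative tor amplitude gives absolute
tor amplitude with a uniform shift -/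
theorem exists_chart_torAmp_id {X' Y : Scheme.{u}} (f' : X' ⟶ Y) [Smooth f'] (x₀ : X') :
    ∃ (n : ℕ) (U : X'.Opens), x₀ ∈ U ∧ ∀ x ∈ U, ∀ (K : CochainComplex X'.Modules ℤ) (a b : ℤ),
      DerSch.HasTorAmplitudeAt f' a b K x → DerSch.HasTorAmplitudeAt (𝟙 X') (a - n) b K x := by
  obtain ⟨W, hW, U, hU, hxU, e, hstd⟩ := Smooth.exists_isStandardSmooth f' x₀
  obtain ⟨n, g₀, hg₀, hét⟩ := hstd.exists_etale_mvPolynomial
  exact ⟨n, U, hxU, fun x hx K a b h =>
    hasTorAmplitudeAt_id_of_chart f' hW hU e n g₀ hg₀ hét x hx K a b h⟩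

/-- the same with a given relative dimension near the point -/
theorem torAmp_id_of_smoothOfRelDim {X' Y : Scheme.{u}} (f' : X' ⟶ Y) (n : ℕ) (V : X'.Opens)
    [SmoothOfRelativeDimension n (V.ι ≫ f')] (x : X') (hx : x ∈ V)
    (K : CochainComplex X'.Modules ℤ) (a b : ℤ) (h : DerSch.HasTorAmplitudeAt f' a b K x) :
    DerSch.HasTorAmplitudeAt (𝟙 X') (a - n) b K x := by
  obtain ⟨W, hW, U, hU, hxU, e, hstd⟩ :=
    SmoothOfRelativeDimension.exists_isStandardSmoothOfRelativeDimension (n := n)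
      (f := V.ι ≫ f') ⟨x, hx⟩
  obtain ⟨g₀, hg₀, hét⟩ := hstd.exists_etale_mvPolynomial
  haveI : Smooth (V.ι ≫ f') := SmoothOfRelativeDimension.smooth n (V.ι ≫ f')
  have h1 := hasTorAmplitudeAt_rcx f' V.ι ⟨x, hx⟩ K a b h
  have h2 := hasTorAmplitudeAt_id_of_chart (V.ι ≫ f') hW hU e n g₀ hg₀ hét ⟨x, hx⟩ hxU _ a b h1
  have h3 := hasTorAmplitudeAt_comp_openImmersion (𝟙 (V : Scheme.{u})) V.ι ⟨x, hx⟩ _ (a - n) b h2
  have h4 : DerSch.HasTorAmplitudeAt (V.ι ≫ 𝟙 X') (a - n) b ((RCx V.ι).obj K) ⟨x, hx⟩ := by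
    rw [Category.comp_id]
    rw [Category.id_comp] at h3
    exact h3
  exact hasTorAmplitudeAt_of_rcx (𝟙 X') V.ι ⟨x, hx⟩ K (a - n) b h4

/-- bounded above from stalkwise tor amplitude -/
theorem isLE_of_hasTorAmplitude_id {X : Scheme.{u}} (G : CochainComplex X.Modules ℤ) (a b : ℤ)
    (hst : DerSch.HasTorAmplitude (𝟙 X) a b G) : (DCoh.toD X G).IsLE b := by
  rw [DerivedCategory.isLE_iff]
  intro j hj
  exact ((HomologicalComplex.exactAt_iff_isZero_homology _ _).1
    (exactAt_of_hasTorAmplitude (𝟙 X) G a b hst j (Or.inr hj))).of_iso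
      ((DerivedCategory.homologyFunctorFactors _ j).app G)

/-- flat amplitude of the restriction to an open is stalkwise tor amplitude on the open -/
theorem hasFlatAmplitudeIn_restrict_iff_stalks {X : Scheme.{u}} (G : CochainComplex X.Modules ℤ)
    (V : X.Opens) (a b : ℤ) :
    DCoh.HasFlatAmplitudeIn a b ((DCoh.restrictD V.ι).obj (DCoh.toD X G)) ↔
      ∀ x ∈ V, DerSch.HasTorAmplitudeAt (𝟙 X) a b G x := by
  have e0 : (DCoh.restrictD V.ι).obj (DCoh.toD X G) ≅
      DCoh.toD (V : Scheme.{u}) ((RCx V.ι).obj G) :=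
    (Scheme.Modules.restrictFunctor V.ι).mapDerivedCategoryFactors.app G
  constructor
  · intro h x hx
    have h1 := hasFlatAmplitudeIn_of_iso e0 h
    have h2 : DerSch.HasTorAmplitudeAt (𝟙 (V : Scheme.{u})) a b ((RCx V.ι).obj G) ⟨x, hx⟩ :=
      (hasTorAmplitudeAt_id_iff _ _ a b).2
        (stalk_torAmplitude_of_hasFlatAmplitudeIn _ a b h1 ⟨x, hx⟩)
    have h3 := hasTorAmplitudeAt_comp_openImmersion (𝟙 (V : Scheme.{u})) V.ι ⟨x, hx⟩ _ a b h2
    have h4 : DerSch.HasTorAmplitudeAt (V.ι ≫ 𝟙 X) a b ((RCx V.ι).obj G) ⟨x, hx⟩ := by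
      rw [Category.comp_id]
      rw [Category.id_comp] at h3
      exact h3
    exact hasTorAmplitudeAt_of_rcx (𝟙 X) V.ι ⟨x, hx⟩ G a b h4
  · intro h
    have hst : DerSch.HasTorAmplitude (𝟙 (V : Scheme.{u})) a b ((RCx V.ι).obj G) := by
      intro v
      have h1 := hasTorAmplitudeAt_rcx (𝟙 X) V.ι v G a b (h _ v.2)
      have h2 : DerSch.HasTorAmplitudeAt (𝟙 (V : Scheme.{u}) ≫ V.ι) a b ((RCx V.ι).obj G) v := by
        rw [Category.id_comp]
        rw [Category.comp_id] at h1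
        exact h1
      exact hasTorAmplitudeAt_of_comp_openImmersion (𝟙 (V : Scheme.{u})) V.ι v _ a b h2
    haveI := isLE_of_hasTorAmplitude_id _ a b hst
    exact hasFlatAmplitudeIn_of_iso e0.symm ((hasFlatAmplitudeIn_iff_stalks _ b a b).2 hst)

section Push
variable {X X' Y : Scheme.{u}} (i : X ⟶ X') [IsClosedImmersion i]

/-- termwise direct image of a complex -/
noncomputable abbrev pushCx : CochainComplex X.Modules ℤ ⥤ CochainComplex X'.Modules ℤ :=
  (Scheme.Modules.pushforward i).mapHomologicalComplex (ComplexShape.up ℤ)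

/-- outside the image, the direct image has zero stalks -/
theorem hasTorAmplitudeAt_push_of_not_mem (F : CochainComplex X.Modules ℤ) (x : X')
    (hx : x ∉ Set.range i.base) (a b : ℤ) :
    DerSch.HasTorAmplitudeAt (𝟙 X') a b ((pushCx i).obj F) x := by
  rw [hasTorAmplitudeAt_id_iff]
  have hs : ∀ k : ℤ, Subsingleton
      ↑((stalkSh X' x).obj ((Scheme.Modules.pushforward i).obj (F.X k))) := fun k =>
    Groth.Agent.Lib.Helper5.ProjF.subsingleton_stalk_push i (F.X k) x hx
  refine ⟨_, fun k _ => ?_, fun k => ?_, ⟨Iso.refl _⟩⟩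
  · haveI := hs k
    show IsZero ((stalkSh X' x).obj ((Scheme.Modules.pushforward i).obj (F.X k)))
    exact ModuleCat.isZero_of_subsingleton _
  · haveI := hs k
    show Module.Flat _ ↑((stalkSh X' x).obj ((Scheme.Modules.pushforward i).obj (F.X k)))
    infer_instance

/-- **S6190 in lib form** -/
theorem hasFlatAmplitudeIn_push_of_smooth (f' : X' ⟶ Y) (d : ℕ)
    (hd : ∀ x : X', ∃ (n : ℕ) (V : X'.Opens), n ≤ d ∧ x ∈ V ∧
      SmoothOfRelativeDimension n (V.ι ≫ f'))
    (F : CochainComplex X.Modules ℤ) (a b : ℤ) (hF : DerSch.HasTorAmplitude (i ≫ f') a b F) :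
    DCoh.HasFlatAmplitudeIn (a - d) b (DCoh.toD X' ((pushCx i).obj F)) := by
  have hst : DerSch.HasTorAmplitude (𝟙 X') (a - d) b ((pushCx i).obj F) := by
    intro x
    by_cases hx : x ∈ Set.range i.base
    · obtain ⟨z, rfl⟩ := hx
      obtain ⟨n, V, hnd, hxV, hsm⟩ := hd (i.base z)
      haveI := hsm
      have h1 : DerSch.HasTorAmplitudeAt f' a b ((pushCx i).obj F) (i.base z) :=
        (hasTorAmplitudeAt_push_iff i f' a b F z).2 (hF z)
      have h2 := torAmp_id_of_smoothOfRelDim f' n V (i.base z) hxV _ a b h1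
      exact hasTorAmplitudeIn_mono h2 (by omega) le_rfl
    · exact hasTorAmplitudeAt_push_of_not_mem i F x hx _ _
  haveI := isLE_of_hasTorAmplitude_id _ (a - d) b hst
  exact (hasFlatAmplitudeIn_iff_stalks _ b (a - d) b).2 hst

/-- **S6197 in lib form** -/
theorem locFiniteTorAmplitude_iff_push (f' : X' ⟶ Y) [Smooth f']
    (F : CochainComplex X.Modules ℤ) :
    DerSch.LocFiniteTorAmplitude (i ≫ f') F ↔
      DCoh.LocHasFiniteTorDim (DCoh.toD X' ((pushCx i).obj F)) := by
  rw [locHasFiniteTorDim_iff]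
  constructor
  · intro hF x'
    by_cases hx : x' ∈ Set.range i.base
    · obtain ⟨z, rfl⟩ := hx
      obtain ⟨V, a, b, hzV, hV⟩ := hF z
      obtain ⟨V₁, hV₁⟩ : ∃ V₁ : X'.Opens, i ⁻¹ᵁ V₁ = V := by
        obtain ⟨s, hs, hpre⟩ := i.isClosedEmbedding.isInducing.isOpen_iff.1 V.isOpen
        exact ⟨⟨s, hs⟩, Opens.ext hpre⟩
      obtain ⟨n, U, hxU, hU⟩ := exists_chart_torAmp_id f' (i.base z)
      have hz1 : i.base z ∈ V₁ := by
        have : z ∈ i ⁻¹ᵁ V₁ := hV₁ ▸ hzV
        exact this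
      refine ⟨V₁ ⊓ U, a - n, b, ⟨hz1, hxU⟩, ?_⟩
      rw [hasFlatAmplitudeIn_restrict_iff_stalks]
      intro x hx
      by_cases hx' : x ∈ Set.range i.base
      · obtain ⟨z', rfl⟩ := hx'
        have hz' : z' ∈ V := by
          rw [← hV₁]
          exact hx.1
        have h1 : DerSch.HasTorAmplitudeAt f' a b ((pushCx i).obj F) (i.base z') :=
          (hasTorAmplitudeAt_push_iff i f' a b F z').2 (hV z' hz')
        exact hU _ hx.2 _ a b h1
      · exact hasTorAmplitudeAt_push_of_not_mem i F x hx' _ _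
    · refine ⟨⟨(Set.range i.base)ᶜ, i.isClosedEmbedding.isClosed_range.isOpen_compl⟩, 0, 0,
        hx, ?_⟩
      rw [hasFlatAmplitudeIn_restrict_iff_stalks]
      intro x hx'
      exact hasTorAmplitudeAt_push_of_not_mem i F x hx' _ _
  · intro h z
    obtain ⟨V', a, b, hxV', hV'⟩ := h (i.base z)
    rw [hasFlatAmplitudeIn_restrict_iff_stalks] at hV'
    refine ⟨i ⁻¹ᵁ V', a, b, hxV', fun z' hz' => ?_⟩
    rw [← hasTorAmplitudeAt_push_iff i f' a b F z']
    exact hasTorAmplitudeAt_of_flat f' (i.base z') _ a b (hV' _ hz')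

end Push

end Groth.Agent.Lib.Helper5.SmTor
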