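import Mathlib
import Groth.Agent.Lib.Helper5.SmTor.Ring
import Groth.Agent.Lib.Helper5.FinPC.FinPush
import Groth.Agent.Lib.Helper5.KSix.TildeAmp
import Groth.Agent.Lib.Helper5.Perf.PerfIff
import Groth.Agent.Lib.Helper5.Perf.NearFLF

/-!
# `f_* O_X` is perfect for `f` affine with pseudo-coherent `f_* O_X`, `X` flat over `S` and `Y`
smooth over `S` (helper5)
-/
set_option autoImplicit false
set_option linter.unusedSectionVars false
set_option linter.unusedVariables false
set_option linter.style.haveILetI false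
universe u
open CategoryTheory CategoryTheory.Limits AlgebraicGeometry Opposite TopologicalSpace
attribute [local instance] HasDerivedCategory.standard

namespace Groth.Agent.Lib.Helper5.SmTor

open Groth.Agent.Lib.Helper5.PerfTri Groth.Agent.Lib.Helper5.PCApprox
  Groth.Agent.Lib.Helper5.PCBiprod Groth.Agent.Lib.Helper5.PCTri
  Groth.Agent.Lib.Helper5.IsoSq Groth.Agent.Lib.Helper5.RpushRes
  Groth.Agent.Helper3.KInjDer Groth.Agent.Lib.Helper5.QC Groth.Agent.Lib.Helper5.TildePC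
  Groth.Agent.Lib.Helper5.PerfIff Groth.Agent.Helper1 Groth.Agent.Lib.Helper5.FinPush
  Groth.Agent.Helper5.TorAmp Groth.Agent.Helper5.PolyTor

/-- ring level, without keeping track of the relative dimension -/
theorem exists_torAmp_of_stdSmooth_flat {A B C : Type u} [CommRing A] [CommRing B] [CommRing C]
    (α : A →+* B) (β : B →+* C) (hα : α.IsStandardSmooth) (hflat : (β.comp α).Flat) :
    ∃ n : ℕ, DRing.HasTorAmplitudeIn B (-(n : ℤ)) 0
      ((DerivedCategory.singleFunctor (ModuleCat.{u} B) 0).obj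
        ((ModuleCat.restrictScalars.{u} β).obj (ModuleCat.of C C))) := by
  obtain ⟨n, g, hgα, hg⟩ := hα.exists_etale_mvPolynomial
  refine ⟨n, ?_⟩
  apply torAmp_of_etale g hg n
  have h0 := torAmp_mv n A 0 ((ModuleCat.restrictScalars.{u} g).obj
    ((ModuleCat.restrictScalars.{u} β).obj (ModuleCat.of C C))) ?_
  · simpa using h0
  · letI : Algebra A C := (β.comp α).toAlgebra
    have hf : Module.Flat A C := hflat
    let N := (ModuleCat.restrictScalars.{u} (MvPolynomial.C : A →+* MvPolynomial (Fin n) A)).obj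
      ((ModuleCat.restrictScalars.{u} g).obj
        ((ModuleCat.restrictScalars.{u} β).obj (ModuleCat.of C C)))
    let e : C ≃ₗ[A] N :=
      { toFun := fun c => c
        invFun := fun c => c
        map_add' := fun _ _ => rfl
        map_smul' := fun a c => by
          show (β.comp α) a * c = β (g (MvPolynomial.C a)) * c
          rw [← hgα]
          rfl
        left_inv := fun _ => rfl
        right_inv := fun _ => rfl }
    haveI : Module.Flat A N := Module.Flat.of_linearEquiv e.symm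
    simpa using hasTorAmplitudeIn_single_of_flat N

/-- flat amplitude restricts to open subschemes -/
theorem hasFlatAmplitudeIn_restrictD {U X : Scheme.{u}} (j : U ⟶ X) [IsOpenImmersion j]
    {K : DCoh.D X} {a b : ℤ} (h : DCoh.HasFlatAmplitudeIn a b K) :
    DCoh.HasFlatAmplitudeIn a b ((DCoh.restrictD j).obj K) := by
  obtain ⟨E, hE, hfl, ⟨e⟩⟩ := h
  refine ⟨((Scheme.Modules.restrictFunctor j).mapHomologicalComplex (ComplexShape.up ℤ)).obj E,
    fun i hi => (Scheme.Modules.restrictFunctor j).map_isZero (hE i hi),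
    fun i y => Groth.Agent.Lib.Helper5.NearFLF.isFlatAt_restrict j (E.X i) y (hfl i (j.base y)),
    ⟨((Scheme.Modules.restrictFunctor j).mapDerivedCategoryFactors.app E).symm ≪≫
      (DCoh.restrictD j).mapIso e⟩⟩

/-- **S7872 in lib form** -/
theorem isPerfect_push_of_flat_smooth {X Y S : Scheme.{u}} (f : X ⟶ Y) (g : Y ⟶ S)
    [IsAffineHom f] [Smooth g] [Flat (f ≫ g)]
    (hpc : ∀ m : ℤ, DCoh.IsPseudoCoherentD m (DCoh.inD Y
      ((Scheme.Modules.pushforward f).obj (Coh.structureModule X)))) :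
    DCoh.IsPerfect (DCoh.inD Y ((Scheme.Modules.pushforward f).obj (Coh.structureModule X))) := by
  rw [isPerfect_iff]
  refine ⟨hpc, ?_⟩
  rw [locHasFiniteTorDim_iff]
  intro y
  obtain ⟨W, hW, V, hV, hyV, e, hstd⟩ := Smooth.exists_isStandardSmooth g y
  haveI : IsAffine (V : Scheme.{u}) := hV
  haveI : IsAffine ((f ⁻¹ᵁ V : X.Opens) : Scheme.{u}) := hV.preimage f
  haveI : DCoh.HasRpush (f ∣_ V) := hasRightDerivedFunctor (DCoh.pushKh (f ∣_ V))
  haveI := Groth.Agent.Helper1.IdealModL.isQuasicoherent_structureModule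
    (X := ((f ⁻¹ᵁ V : X.Opens) : Scheme.{u}))
  obtain ⟨e1⟩ := nonempty_rpush_inD (f ∣_ V)
    (Coh.structureModule ((f ⁻¹ᵁ V : X.Opens) : Scheme.{u}))
  obtain ⟨e2⟩ := nonempty_affine_rpush (f ∣_ V)
    (DCoh.inD ((f ⁻¹ᵁ V : X.Opens) : Scheme.{u})
      (Coh.structureModule ((f ⁻¹ᵁ V : X.Opens) : Scheme.{u}))) _
    (tildeDUnitIso Γ(((f ⁻¹ᵁ V : X.Opens) : Scheme.{u}), ⊤) ≪≫
      (restrictDUnitIso ((f ⁻¹ᵁ V : X.Opens) : Scheme.{u}).isoSpec.inv).symm)
  have e3 : (DCoh.restrictD V.ι).obj (DCoh.inD Y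
      ((Scheme.Modules.pushforward f).obj (Coh.structureModule X))) ≅
      DCoh.inD (V : Scheme.{u}) ((Scheme.Modules.pushforward (f ∣_ V)).obj
        (Coh.structureModule ((f ⁻¹ᵁ V : X.Opens) : Scheme.{u}))) :=
    ((Scheme.Modules.restrictFunctor V.ι).mapDerivedCategorySingleFunctor 0).app _ ≪≫
      (DerivedCategory.singleFunctor _ 0).mapIso
        ((pushRestrictIso f V).app _ ≪≫ (Scheme.Modules.pushforward (f ∣_ V)).mapIso
          (Scheme.Modules.restrictUnitIso (f ⁻¹ᵁ V).ι))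
  -- the ring maps
  have hWV : (⊤ : (V : Scheme.{u}).Opens) ≤ (V.ι ≫ g) ⁻¹ᵁ W := fun z _ => e z.2
  have hα : ((V.ι ≫ g).appLE W ⊤ hWV).hom.IsStandardSmooth := by
    have h1 : (V.ι ≫ g).appLE W ⊤ hWV = g.appLE W V e ≫ V.ι.appLE V ⊤ (by simp) := by
      rw [Scheme.Hom.appLE_comp_appLE]
    have h2 : V.ι.appLE V ⊤ (by simp) = V.topIso.inv := by
      rw [Scheme.Opens.ι_appLE, Scheme.Opens.topIso_inv]
      exact congrArg Y.presheaf.map (Subsingleton.elim _ _)
    rw [h1, h2, CommRingCat.hom_comp]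
    exact RingHom.isStandardSmooth_respectsIso.1 (g.appLE W V e).hom
      V.topIso.symm.commRingCatIsoToRingEquiv hstd
  have hflat : ((f ∣_ V).appTop.hom.comp ((V.ι ≫ g).appLE W ⊤ hWV).hom).Flat := by
    have h1 : (V.ι ≫ g).appLE W ⊤ hWV ≫ (f ∣_ V).appTop =
        ((f ∣_ V) ≫ V.ι ≫ g).appLE W ⊤ (fun z _ => hWV (Set.mem_univ _)) := by
      have h0 : (f ∣_ V).appTop = (f ∣_ V).appLE ⊤ ⊤ le_top := by
        simp [Scheme.Hom.appLE, Scheme.Hom.appTop]
        exact (Category.comp_id _).symm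
      rw [h0, Scheme.Hom.appLE_comp_appLE]
    rw [← CommRingCat.hom_comp, h1]
    have h3 : (f ∣_ V) ≫ V.ι ≫ g = (f ⁻¹ᵁ V).ι ≫ f ≫ g := by
      rw [← Category.assoc, morphismRestrict_ι, Category.assoc]
    haveI : Flat ((f ∣_ V) ≫ V.ι ≫ g) := by
      rw [h3]
      infer_instance
    exact Flat.flat_appLE _ hW (isAffineOpen_top _) _
  obtain ⟨n, hn⟩ := exists_torAmp_of_stdSmooth_flat _ _ hα hflat
  refine ⟨V, -(n : ℤ), 0, hyV, ?_⟩
  have h4 := (Groth.Agent.Lib.Helper5.KSixTilde.hasFlatAmplitudeIn_tildeD_iff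
    Γ((V : Scheme.{u}), ⊤) _ (-(n : ℤ)) 0).2
    (hasTorAmplitudeIn_of_iso
      (((ModuleCat.restrictScalars (f ∣_ V).appTop.hom).mapDerivedCategorySingleFunctor 0).app
        (ModuleCat.of Γ(((f ⁻¹ᵁ V : X.Opens) : Scheme.{u}), ⊤)
          Γ(((f ⁻¹ᵁ V : X.Opens) : Scheme.{u}), ⊤))).symm hn)
  have h5 : DCoh.HasFlatAmplitudeIn (-(n : ℤ)) 0
      ((DCoh.restrictD (V : Scheme.{u}).isoSpec.inv).obj ((DCoh.restrictD V.ι).obj (DCoh.inD Y
        ((Scheme.Modules.pushforward f).obj (Coh.structureModule X))))) :=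
    hasFlatAmplitudeIn_of_iso
      (e2.symm ≪≫ (DCoh.restrictD (V : Scheme.{u}).isoSpec.inv).mapIso (e1 ≪≫ e3.symm)) h4
  have h6 := hasFlatAmplitudeIn_restrictD (V : Scheme.{u}).isoSpec.hom h5
  exact hasFlatAmplitudeIn_of_iso ((restrictDInvHom (V : Scheme.{u}).isoSpec).app _) h6

end Groth.Agent.Lib.Helper5.SmTor
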