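import Mathlib
import Groth.Agent.Lib.Helper5.SmTor.Geo

/-!
# Local factorisation of a morphism of finite tor dimension through an affine space (helper5)
-/
set_option autoImplicit false
set_option linter.unusedSectionVars false
set_option linter.unusedVariables false
set_option linter.style.haveILetI false
universe u
open CategoryTheory CategoryTheory.Limits AlgebraicGeometry Pretriangulated
attribute [local instance] HasDerivedCategory.standard

namespace Groth.Agent.Lib.Helper5.SmTor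

open Groth.Agent.Helper5.TorAmp Groth.Agent.Lib.Helper5.DerSchTor
open Groth.Agent.Lib.Helper5.LocNull Groth.Agent.Lib.Helper5.RelTor
open Groth.Agent.Lib.Helper5.FinPush Groth.Agent.Helper5.PolyTor
open Groth.Agent.Lib.Helper5.RelPerfTen

variable {X Y : Scheme.{u}}

/-- the restriction of the unit complex along an open immersion is the unit complex -/
noncomputable def rcxUnitIso {U Z : Scheme.{u}} (j : U ⟶ Z) [IsOpenImmersion j] :
    DCoh.toD U ((RCx j).obj (DerSch.unitCx Z)) ≅ DCoh.toD U (DerSch.unitCx U) :=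
  ((Scheme.Modules.restrictFunctor j).mapDerivedCategoryFactors.app _).symm ≪≫
    (DCoh.restrictD j).mapIso ((DerivedCategory.singleFunctorIsoCompQ Z.Modules 0).app _).symm ≪≫
    restrictDUnitIso j ≪≫ (DerivedCategory.singleFunctorIsoCompQ U.Modules 0).app _

/-- the unit complex of an affine scheme is the tilde of the ring -/
noncomputable def unitSpecIso (C : CommRingCat.{u}) :
    DCoh.toD (Spec C) (DerSch.unitCx (Spec C)) ≅
      (DCoh.tildeD C).obj ((DerivedCategory.singleFunctor (ModuleCat.{u} C) 0).obj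
        (ModuleCat.of C C)) :=
  ((DerivedCategory.singleFunctorIsoCompQ (Spec C).Modules 0).app _).symm ≪≫
    (tildeDUnitIso C).symm

/-- **S17643 in lib form** -/
theorem factor_finTorDim (f : X ⟶ Y) [LocallyOfFiniteType f] (hf : DerSch.HasFiniteTorDim f)
    (U : X.Opens) (hU : IsAffineOpen U) (V : Y.Opens) (hV : IsAffineOpen V)
    (hUV : U ≤ f ⁻¹ᵁ V) :
    ∃ (W : Scheme.{u}) (g : (U : Scheme.{u}) ⟶ W) (h : W ⟶ Y),
      IsClosedImmersion g ∧ DerSch.HasFiniteTorDim g ∧ Smooth h ∧ g ≫ h = U.ι ≫ f := by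
  have hft : (f.appLE V U hUV).hom.FiniteType :=
    LocallyOfFiniteType.finiteType_appLE f hV hU hUV
  letI : Algebra Γ(Y, V) Γ(X, U) := (f.appLE V U hUV).hom.toAlgebra
  haveI : Algebra.FiniteType Γ(Y, V) Γ(X, U) := hft
  obtain ⟨m, ψ, hψ⟩ := Algebra.FiniteType.iff_quotient_mvPolynomial''.1
    (inferInstance : Algebra.FiniteType Γ(Y, V) Γ(X, U))
  let ψ' : CommRingCat.of (MvPolynomial (Fin m) Γ(Y, V)) ⟶ Γ(X, U) :=
    CommRingCat.ofHom ψ.toRingHom
  let ι : Γ(Y, V) ⟶ CommRingCat.of (MvPolynomial (Fin m) Γ(Y, V)) :=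
    CommRingCat.ofHom MvPolynomial.C
  have hιψ : ι ≫ ψ' = f.appLE V U hUV := by
    ext b
    exact ψ.commutes b
  refine ⟨Spec (CommRingCat.of (MvPolynomial (Fin m) Γ(Y, V))), hU.isoSpec.hom ≫ Spec.map ψ',
    Spec.map ι ≫ hV.fromSpec, ?_, ?_, ?_, ?_⟩
  · haveI := IsClosedImmersion.spec_of_surjective ψ' hψ
    infer_instance
  · obtain ⟨a, b, hab⟩ := hf
    have h1 : DRing.HasTorAmplitudeIn Γ(Y, V) a b ((DRing.restrictD (f.appLE V U hUV).hom).obj
        ((DerivedCategory.singleFunctor (ModuleCat.{u} Γ(X, U)) 0).obj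
          (ModuleCat.of Γ(X, U) Γ(X, U)))) := by
      apply (hasTorAmplitude_iff_of_tildeD (f.appLE V U hUV).hom
        ((DerivedCategory.singleFunctor (ModuleCat.{u} Γ(X, U)) 0).obj
          (ModuleCat.of Γ(X, U) Γ(X, U)))
        ((RCx hU.fromSpec).obj (DerSch.unitCx X)) ⟨unitChartIso hU⟩ a b).1
      intro x'
      exact (hasTorAmplitudeAt_fromSpec_iff f hU hV hUV _ a b x').1 (hab _)
    have h2 := hasTorAmplitudeIn_of_iso
      (Groth.Agent.Helper5.PCHom.restrictDSingle (f.appLE V U hUV).hom _) h1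
    have h3 : DRing.HasTorAmplitudeIn Γ(Y, V) (-(a.natAbs : ℤ)) 0
        ((DerivedCategory.singleFunctor (ModuleCat.{u} Γ(Y, V)) 0).obj
          ((ModuleCat.restrictScalars.{u} (f.appLE V U hUV).hom).obj
            (ModuleCat.of Γ(X, U) Γ(X, U)))) :=
      hasTorAmplitudeIn_mono (hasTorAmplitudeIn_trim h2 (b' := 0)) (by omega) le_rfl
    have hC : (f.appLE V U hUV).hom = ψ.toRingHom.comp
        (MvPolynomial.C : Γ(Y, V) →+* MvPolynomial (Fin m) Γ(Y, V)) := by
      ext b
      exact (ψ.commutes b).symm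
    have h4 := torAmp_mv m Γ(Y, V) a.natAbs ((ModuleCat.restrictScalars.{u} ψ.toRingHom).obj
      (ModuleCat.of Γ(X, U) Γ(X, U)))
      (hasTorAmplitudeIn_of_iso ((DerivedCategory.singleFunctor _ 0).mapIso
        (ModuleCat.restrictScalarsComp'App _ _ _ hC (ModuleCat.of Γ(X, U) Γ(X, U)))) h3)
    refine ⟨-((a.natAbs + m : ℕ) : ℤ), 0, fun u => ?_⟩
    have h5 : DerSch.HasTorAmplitude (Spec.map ψ') (-((a.natAbs + m : ℕ) : ℤ)) 0
        (DerSch.unitCx (Spec Γ(X, U))) :=
      (hasTorAmplitude_iff_of_tildeD ψ.toRingHom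
        ((DerivedCategory.singleFunctor (ModuleCat.{u} Γ(X, U)) 0).obj
          (ModuleCat.of Γ(X, U) Γ(X, U)))
        (DerSch.unitCx (Spec Γ(X, U))) ⟨unitSpecIso Γ(X, U)⟩ _ _).2
        (hasTorAmplitudeIn_of_iso
          (Groth.Agent.Helper5.PCHom.restrictDSingle ψ.toRingHom _).symm h4)
    have h6 := hasTorAmplitudeAt_rcx (Spec.map ψ') hU.isoSpec.hom u
      (DerSch.unitCx (Spec Γ(X, U))) _ _ (h5 _)
    exact hasTorAmplitudeAt_of_iso _ u (rcxUnitIso hU.isoSpec.hom) _ _ h6
  · haveI : Algebra.Smooth Γ(Y, V) (MvPolynomial (Fin m) Γ(Y, V)) := ⟨inferInstance, inferInstance⟩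
    have hsm : (MvPolynomial.C : Γ(Y, V) →+* MvPolynomial (Fin m) Γ(Y, V)).Smooth := by
      have := RingHom.smooth_algebraMap.2
        (inferInstance : Algebra.Smooth Γ(Y, V) (MvPolynomial (Fin m) Γ(Y, V)))
      rwa [MvPolynomial.algebraMap_eq] at this
    haveI : Smooth (Spec.map ι) := (HasRingHomProperty.Spec_iff (P := @Smooth)).2 hsm
    infer_instance
  · rw [Category.assoc, ← Category.assoc (Spec.map ψ'), ← Spec.map_comp, hιψ,
      IsAffineOpen.SpecMap_appLE_fromSpec f hV hU hUV, ← Category.assoc]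
    congr 1
    rw [← hU.isoSpec_inv_ι, Iso.hom_inv_id_assoc]

end Groth.Agent.Lib.Helper5.SmTor
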