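import Mathlib
import Groth.Agent.Lib.Helper5.SmTor.LocRing2
import Groth.Agent.Lib.Helper3.PerfLoc3
import Groth.Agent.Lib.Helper3.PCLoc3
import Groth.Agent.Lib.Helper3.PerfHom8
import Groth.Agent.Lib.Helper5.TorAmp.TorDim

/-!
# Cancelling a smooth morphism in a perfect composite (helper5)
-/
set_option autoImplicit false
set_option linter.unusedSectionVars false
set_option linter.unusedVariables false
set_option linter.style.haveILetI false
universe u
open CategoryTheory CategoryTheory.Limits AlgebraicGeometry DerivedCategory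
attribute [local instance] HasDerivedCategory.standard

namespace Groth.Agent.Lib.Helper5.SmTor
open Groth.Agent.Helper3.PCLoc Groth.Agent.Helper3.PerfHom Groth.Agent.Helper5.TorAmp

/-- finite tor dimension over a standard smooth algebra from finite tor dimension over the base -/
theorem hasFiniteTorDim_of_stdSmooth {A B : Type u} [CommRing A] [CommRing B] [Algebra A B]
    (hsm : (algebraMap A B).IsStandardSmooth) (M : Type u) [AddCommGroup M] [Module A M]
    [Module B M] [IsScalarTower A B M] (h : DRing.HasFiniteTorDim A M) :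
    DRing.HasFiniteTorDim B M := by
  obtain ⟨d, hd⟩ := h
  obtain ⟨n, g₀, hg₀, hét⟩ := hsm.exists_etale_mvPolynomial
  haveI : IsLocalization (⊥ : Submonoid A) A := IsLocalization.self bot_le
  haveI : IsLocalization (⊥ : Submonoid B) B := IsLocalization.self bot_le
  have h1 : DRing.HasTorAmplitudeIn A (-(d : ℤ)) 0 (Dual.inD A M) := ((s6946 M d).1).1 hd
  let e' : M ≃ₗ[A] ((ModuleCat.restrictScalars.{u} (algebraMap A B)).obj (ModuleCat.of B M)) :=
    AddEquiv.toLinearEquiv
      (AddEquiv.refl M : M ≃+ ((ModuleCat.restrictScalars.{u} (algebraMap A B)).obj (ModuleCat.of B M)))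
      (fun a m => (algebraMap_smul B a m).symm)
  let e : ModuleCat.of A M ≅
      (ModuleCat.restrictScalars.{u} (algebraMap A B)).obj (ModuleCat.of B M) := e'.toModuleIso
  have h2 := torAmp_of_loc_etale_chart (algebraMap A B) n g₀ hg₀ hét (⊥ : Submonoid A)
    (⊥ : Submonoid B) (algebraMap A B) (RingHom.ext fun x => by simp) d (ModuleCat.of B M)
    (hasTorAmplitudeIn_of_iso ((DerivedCategory.singleFunctor _ 0).mapIso e) h1)
  exact ⟨d + n, ((s6946 M (d + n)).1).2 h2⟩

/-- ring level: cancelling a standard smooth map in a perfect composite -/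
theorem perfectHom_cancel_stdSmooth {A B C : Type u} [CommRing A] [CommRing B] [CommRing C]
    [Algebra A B] [Algebra B C] [Algebra A C] [IsScalarTower A B C]
    (hsm : (algebraMap A B).IsStandardSmooth) (h : MoreMor.IsPerfectHom A C) :
    MoreMor.IsPerfectHom B C := by
  haveI : Algebra.IsStandardSmooth A B := RingHom.isStandardSmooth_algebraMap.1 hsm
  have hAB : MoreMor.IsPseudoCoherentHom A B := (perfectHom_of_flat_fp A B).1
  exact ⟨pcHom_cancel (R := A) hAB h.1, hasFiniteTorDim_of_stdSmooth hsm C h.2⟩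

/-- **S1510 in lib form** -/
theorem isPerfectMor_of_comp_smooth {X Y S : Scheme.{u}} (f : X ⟶ Y) (g : Y ⟶ S) [Smooth g]
    (h : MoreMor.IsPerfectMor (f ≫ g)) : MoreMor.IsPerfectMor f := by
  rw [S7171_main]
  intro x
  obtain ⟨W, hW, V, hV, hyV, e, hstd⟩ := Smooth.exists_isStandardSmooth g (f.base x)
  obtain ⟨U, hU, hxU, hUV⟩ : ∃ U : X.Opens, IsAffineOpen U ∧ x ∈ U ∧ U ≤ f ⁻¹ᵁ V := by
    obtain ⟨U', ⟨hU', hxU', hUV'⟩⟩ :=
      (X.isBasis_affineOpens).exists_subset_of_mem_open
        (show x ∈ ((f ⁻¹ᵁ V : X.Opens) : Set X) from hyV) (f ⁻¹ᵁ V).isOpen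
    obtain ⟨U, hU, rfl⟩ := hU'
    exact ⟨U, hU, hxU', hUV'⟩
  refine ⟨U, V, hUV, hU, hV, hxU, ?_⟩
  have hUW : U ≤ (f ≫ g) ⁻¹ᵁ W := fun z hz => e (hUV hz)
  have hperf := h U W hU hW hUW
  letI : Algebra Γ(S, W) Γ(Y, V) := (g.appLE W V e).hom.toAlgebra
  letI : Algebra Γ(Y, V) Γ(X, U) := (f.appLE V U hUV).hom.toAlgebra
  letI : Algebra Γ(S, W) Γ(X, U) := ((f ≫ g).appLE W U hUW).hom.toAlgebra
  haveI : IsScalarTower Γ(S, W) Γ(Y, V) Γ(X, U) := IsScalarTower.of_algebraMap_eq' (by
    show ((f ≫ g).appLE W U hUW).hom = (f.appLE V U hUV).hom.comp (g.appLE W V e).hom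
    rw [← CommRingCat.hom_comp, Scheme.Hom.appLE_comp_appLE])
  exact perfectHom_cancel_stdSmooth (A := Γ(S, W)) (B := Γ(Y, V)) (C := Γ(X, U)) hstd hperf

end Groth.Agent.Lib.Helper5.SmTor
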