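import Mathlib
import Groth.Agent.Lib.Helper5.SmTor.CxGeo
import Groth.Agent.Lib.Helper5.RelPC.ClImmRel
import Groth.Agent.Lib.Helper5.RelPC.FlatLfp
import Groth.Agent.Lib.Helper5.Perf.PerfAmp
import Groth.Agent.Lib.Helper5.Perf.PerfIff
import Groth.Agent.Lib.Helper5.Perf.RpushOpen

/-!
# Relative perfection and direct image along a closed immersion into a smooth scheme (helper5)
-/
set_option autoImplicit false
set_option linter.unusedSectionVars false
set_option linter.unusedVariables false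
set_option linter.style.haveILetI false
universe u
open CategoryTheory CategoryTheory.Limits AlgebraicGeometry Pretriangulated TopologicalSpace ZeroObject
attribute [local instance] HasDerivedCategory.standard

namespace Groth.Agent.Lib.Helper5.SmTor

open Groth.Agent.Lib.Helper5.PerfAmpl Groth.Agent.Lib.Helper5.PerfIff
open Groth.Agent.Lib.Helper5.ClImmRel Groth.Agent.Lib.Helper5.FlatLfp
open Groth.Agent.Lib.Helper5.LocNull

/-- the zero object has perfect amplitude in every interval -/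
theorem hasPerfectAmplitudeIn_of_isZero {X : Scheme.{u}} {K : DCoh.D X} (hK : IsZero K) (m n : ℤ) :
    KSix.HasPerfectAmplitudeIn m n K := by
  apply hasPerfectAmplitudeIn_of_LPA
  intro x
  have hz : ∀ i : ℤ, IsZero ((0 : CochainComplex X.Modules ℤ).X i) := fun i =>
    (HomologicalComplex.eval _ _ i).map_isZero (isZero_zero _)
  have e0 : K ≅ DerivedCategory.Q.obj (0 : CochainComplex X.Modules ℤ) :=
    IsZero.iso hK (DerivedCategory.Q.map_isZero (isZero_zero _))
  refine ⟨X, 𝟙 X, inferInstance, ⟨x, rfl⟩, (RCx (𝟙 X)).obj 0, fun i _ => ?_, fun i => ?_, ⟨?_⟩⟩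
  · exact Functor.map_isZero (Scheme.Modules.restrictFunctor (𝟙 X)) (hz i)
  · exact Groth.Agent.Lib.Helper5.RpushOpen.isFinLocFree_of_isZero _
      (Functor.map_isZero (Scheme.Modules.restrictFunctor (𝟙 X)) (hz i))
  · exact (DCoh.restrictD (𝟙 X)).mapIso e0 ≪≫
      (Scheme.Modules.restrictFunctor (𝟙 X)).mapDerivedCategoryFactors.app 0

/-- an object of flat amplitude in an empty interval is zero -/
theorem isZero_of_hasFlatAmplitudeIn_of_lt {X : Scheme.{u}} {K : DCoh.D X} {a b : ℤ} (hab : b < a)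
    (h : DCoh.HasFlatAmplitudeIn a b K) : IsZero K := by
  obtain ⟨E, hE, -, ⟨e⟩⟩ := h
  have hEz : IsZero E := by
    rw [IsZero.iff_id_eq_zero]
    refine HomologicalComplex.hom_ext _ _ (fun i => ?_)
    exact (hE i (by omega)).eq_of_src _ _
  exact (DerivedCategory.Q.map_isZero hEz).of_iso e.symm

section Push
variable {X Y S : Scheme.{u}} (i : X ⟶ Y) [IsClosedImmersion i]

/-- **S6217 in lib form** -/
theorem isPerfectRel_iff_push (g : Y ⟶ S) [Smooth g] (F : CochainComplex X.Modules ℤ) :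
    DerSch.IsPerfectRel (i ≫ g) F ↔ DCoh.IsPerfect (DCoh.toD Y ((pushCx i).obj F)) := by
  rw [isPerfect_iff]
  have hpc : ∀ m : ℤ, DerSch.IsPseudoCoherentRel (i ≫ g) m (DCoh.toD X F) ↔
      DCoh.IsPseudoCoherentD m (DCoh.toD Y ((pushCx i).obj F)) := fun m =>
    isPseudoCoherentRel_closed_comp_iff_isPC i g (fun n => isNPC_of_flat_lfp g n) m F
  constructor
  · rintro ⟨h1, h2⟩
    exact ⟨fun m => (hpc m).1 (h1 m), (locFiniteTorAmplitude_iff_push i g F).1 h2⟩
  · rintro ⟨h1, h2⟩
    exact ⟨fun m => (hpc m).2 (h1 m), (locFiniteTorAmplitude_iff_push i g F).2 h2⟩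

/-- **S6219 in lib form** -/
theorem hasPerfectAmplitudeIn_push (g : Y ⟶ S) [Smooth g] (d : ℕ)
    (hd : ∀ y : Y, ∃ (n : ℕ) (V : Y.Opens), n ≤ d ∧ y ∈ V ∧
      SmoothOfRelativeDimension n (V.ι ≫ g))
    (a b : ℤ) (F : CochainComplex X.Modules ℤ) (hF : DerSch.HasPerfAmplitudeRel (i ≫ g) a b F) :
    KSix.HasPerfectAmplitudeIn (a - d) b (DCoh.toD Y ((pushCx i).obj F)) := by
  obtain ⟨hpc, htor⟩ := hF
  have hflat := hasFlatAmplitudeIn_push_of_smooth i g d hd F a b htor
  by_cases hab : a - d ≤ b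
  · refine hasPerfectAmplitudeIn_of_flatAmplitude_of_pseudoCoherent _ (a - d) b hab hflat ?_
    exact (isPseudoCoherentRel_closed_comp_iff_isPC i g (fun n => isNPC_of_flat_lfp g n) _ F).1
      (hpc _)
  · exact hasPerfectAmplitudeIn_of_isZero
      (isZero_of_hasFlatAmplitudeIn_of_lt (not_le.1 hab) hflat) _ _

end Push

end Groth.Agent.Lib.Helper5.SmTor
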